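/-
Equivariant solvable signalizer functors on groups with connected rank-two graph.
-/
import Cfsg.Agent.Components.SFT.Complete
import Cfsg.Agent.Components.Local
import Cfsg.Prelude.Def_Balance
import Cfsg.Prelude.Def_CaseTheorems

set_option autoImplicit false
set_option linter.style.haveILetI false
set_option linter.unusedSectionVars false

namespace Cfsg.Agent.Components.SFT

open Subgroup
open scoped commutatorElement

variable {G : Type*} [Group G] [Finite G] {p : ℕ}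

/-- An element of order `p` with centralizer of `p`-rank at least three. -/
def IsRankThreePoint (p : ℕ) (a : G) : Prop :=
  orderOf a = p ∧ ¬ Cfsg.PRankLE p 2 ↥(Subgroup.centralizer ({a} : Set G))

/-- A large elementary abelian group in the centralizer of `H`, taken inside `G`. -/
theorem exists_large_ea {H : Subgroup G} (h : ¬ Cfsg.PRankLE p 2 ↥H) :
    ∃ F : Subgroup G, F ≤ H ∧ Cfsg.IsElementaryAbelian p F ∧ p ^ 2 < Nat.card F := by
  unfold Cfsg.PRankLE at h
  push Not at h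
  obtain ⟨F₀, hF₀, hexp, hcard⟩ := h
  exact ⟨F₀.map H.subtype, Subgroup.map_subtype_le _, PLocal.isEA_map ⟨hF₀, hexp⟩ _,
    by rwa [Core.card_map_subtype]⟩

theorem card_ge_of_lt [hp : Fact p.Prime] {F : Subgroup G} (hF : Cfsg.IsElementaryAbelian p F)
    (h : p ^ 2 < Nat.card F) : p ^ 3 ≤ Nat.card F := by
  obtain ⟨k, hk⟩ := (ea_isPGroup hF).exists_card_eq
  rw [hk] at h ⊢
  exact Nat.pow_le_pow_right hp.out.pos ((Nat.pow_lt_pow_iff_right hp.out.one_lt).mp h)

theorem not_rankLE_of_le [hp : Fact p.Prime] {A H : Subgroup G} (hA : Cfsg.IsElementaryAbelian p A)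
    (h3 : p ^ 3 ≤ Nat.card A) (hAH : A ≤ H) : ¬ Cfsg.PRankLE p 2 ↥H := fun h => by
  have h1 := h (A.subgroupOf H) (PLocal.isEA_comap hA H.subtype H.subtype_injective).1
    (PLocal.isEA_comap hA H.subtype H.subtype_injective).2
  rw [Core.card_subgroupOf hAH] at h1
  exact absurd (h3.trans h1) (not_le.mpr (Nat.pow_lt_pow_right hp.out.one_lt (by norm_num)))

theorem isRankThreePoint_of_mem [hp : Fact p.Prime] {A : Subgroup G} (hA : Cfsg.IsElementaryAbelian p A)
    (h3 : p ^ 3 ≤ Nat.card A) {a : G} (ha : a ∈ A) (ha1 : a ≠ 1) : IsRankThreePoint p a :=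
  ⟨orderOf_eq_prime (hA.2 a ha) ha1, not_rankLE_of_le hA h3 (ea_le_centralizer hA ha)⟩

/-- An equivariant solvable signalizer functor on the points of rank three is trivial. -/
theorem equivariant_trivial [hp : Fact p.Prime] (hO : Cfsg.pPrimeCore p G = ⊥)
    (hconn : Cfsg.IsRankGraphConnected p 2 G) (θ : G → Subgroup G)
    (hC : ∀ a : G, IsRankThreePoint p a →
      θ a ≤ Subgroup.centralizer ({a} : Set G) ∧ ¬ p ∣ Nat.card ↥(θ a) ∧ Group.IsSolvable ↥(θ a))
    (heq : ∀ a g : G, IsRankThreePoint p a → θ (g * a * g⁻¹) = (θ a).map (MulAut.conj g).toMonoidHom)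
    (hbal : ∀ a b : G, IsRankThreePoint p a → IsRankThreePoint p b → a * b = b * a →
      θ a ⊓ Subgroup.centralizer {b} ≤ θ b)
    {a₀ : G} (ha₀ : IsRankThreePoint p a₀) : θ a₀ = ⊥ := by
  classical
  set Wof : Subgroup G → Subgroup G := fun A => ⨆ b : {b : G // b ∈ A ∧ b ≠ 1}, θ (b : G) with hWof
  have hfun : ∀ {A : Subgroup G}, Cfsg.IsElementaryAbelian p A → p ^ 3 ≤ Nat.card A →
      Cfsg.IsSolvableSignalizerFunctor p A θ := fun {A} hA h3 => by
    refine ⟨⟨fun a ha ha1 => (hC a (isRankThreePoint_of_mem hA h3 ha ha1)).1,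
      fun a ha ha1 => (hC a (isRankThreePoint_of_mem hA h3 ha ha1)).2.1, fun a ha ha1 b hb x hx => ?_,
      fun a ha ha1 b hb hb1 => hbal a b (isRankThreePoint_of_mem hA h3 ha ha1)
        (isRankThreePoint_of_mem hA h3 hb hb1) (PLocal.comm_of_EA hA ha hb)⟩,
      fun a ha ha1 => (hC a (isRankThreePoint_of_mem hA h3 ha ha1)).2.2⟩
    have h := heq a b (isRankThreePoint_of_mem hA h3 ha ha1)
    rw [PLocal.comm_of_EA hA hb ha, mul_inv_cancel_right] at h
    rw [h]
    exact ⟨x, hx, rfl⟩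
  -- `W A` only depends on the non-cyclic subgroups of `A`
  have hsub : ∀ {A E : Subgroup G}, Cfsg.IsElementaryAbelian p A → p ^ 3 ≤ Nat.card A → E ≤ A →
      p ^ 2 ≤ Nat.card E → Wof E = Wof A := fun {A E} hA h3 hEA hE2 => by
    refine le_antisymm (iSup_le fun b => le_iSup (fun b : {b : G // b ∈ A ∧ b ≠ 1} => θ (b : G))
      ⟨b, hEA b.2.1, b.2.2⟩) ?_
    have hWmem := closure_mem_family hA h3 (hfun hA h3)
    have hEea := PLocal.isEA_mono hA hEA
    haveI := hEea.1
    obtain ⟨k, hk⟩ := (ea_isPGroup hEea).exists_card_eq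
    have hk2 : 2 ≤ k := (Nat.pow_le_pow_iff_right hp.out.one_lt).mp (hk ▸ hE2)
    have hnc : ¬ IsCyclic ↥E := fun h => by
      obtain ⟨g, hg⟩ := h.exists_ofOrder_eq_natCard
      have h1 : orderOf g ∣ p := orderOf_dvd_of_pow_eq_one (Subtype.ext (hEea.2 g g.2))
      rw [hg, hk] at h1
      exact absurd (Nat.le_of_dvd hp.out.pos h1)
        (not_le.mpr ((pow_one p).symm.trans_lt (Nat.pow_lt_pow_right hp.out.one_lt hk2)))
    rw [hWof]
    dsimp only
    conv_lhs => rw [← Coprime.eq_centralizerJoin hnc (hEA.trans (family_normalizer hWmem))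
      (((ea_coprime hA hWmem.2.1).coprime_dvd_left (Subgroup.card_dvd_of_le hEA)))]
    exact iSup_le fun e => (hWmem.2.2.2 e (hEA e.2.1) e.2.2).trans
      (le_iSup (fun b : {b : G // b ∈ E ∧ b ≠ 1} => θ (b : G)) e)
  -- connectivity
  have hvert : ∀ {E : Subgroup G}, Cfsg.IsRankGraphVertex p 2 E → ∃ A, Cfsg.IsElementaryAbelian p A ∧
      p ^ 3 ≤ Nat.card A ∧ E ≤ A := fun {E} hE => by
    obtain ⟨F, hFC, hF, hcard⟩ := exists_large_ea hE.2.2
    refine ⟨E ⊔ F, PLocal.isEA_sup hE.1 hF (Subgroup.le_centralizer_iff.mp hFC), ?_, le_sup_left⟩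
    exact (card_ge_of_lt hF hcard).trans (Subgroup.card_le_of_le le_sup_right)
  have hedge : ∀ {E E' : Subgroup G}, Cfsg.IsRankGraphVertex p 2 E → Cfsg.IsRankGraphVertex p 2 E' →
      (∀ a ∈ E, ∀ b ∈ E', a * b = b * a) → Wof E = Wof E' := fun {E E'} hE hE' hc => by
    have hEA := PLocal.isEA_sup hE.1 hE'.1
      (fun a ha => Subgroup.mem_centralizer_iff.mpr fun b hb => (hc a ha b hb).symm)
    by_cases h3 : p ^ 3 ≤ Nat.card ↥(E ⊔ E')
    · rw [hsub hEA h3 le_sup_left hE.2.1, hsub hEA h3 le_sup_right hE'.2.1]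
    · have hle : Nat.card ↥(E ⊔ E') ≤ p ^ 2 := by
        by_contra hlt
        exact h3 (card_ge_of_lt hEA (not_le.mp hlt))
      have h1 : E = E ⊔ E' := Subgroup.eq_of_le_of_card_ge le_sup_left (hle.trans hE.2.1)
      have h2 : E' = E ⊔ E' := Subgroup.eq_of_le_of_card_ge le_sup_right (hle.trans hE'.2.1)
      rw [h1.trans h2.symm]
  have hvof : ∀ {A : Subgroup G}, Cfsg.IsElementaryAbelian p A → p ^ 3 ≤ Nat.card A →
      Cfsg.IsRankGraphVertex p 2 A := fun {A} hA h3 =>
    ⟨hA, (Nat.pow_le_pow_right hp.out.pos (by norm_num)).trans h3,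
      not_rankLE_of_le hA h3 (Subgroup.le_centralizer_iff_isMulCommutative.mpr hA.1)⟩
  have hWeq : ∀ {A B : Subgroup G}, Cfsg.IsElementaryAbelian p A → p ^ 3 ≤ Nat.card A →
      Cfsg.IsElementaryAbelian p B → p ^ 3 ≤ Nat.card B → Wof A = Wof B := fun {A B} hA hA3 hB hB3 => by
    have h := hconn A B (hvof hA hA3) (hvof hB hB3)
    have key : ∀ C, Relation.ReflTransGen (fun X Y : Subgroup G => Cfsg.IsRankGraphVertex p 2 X ∧
        Cfsg.IsRankGraphVertex p 2 Y ∧ ∀ a ∈ X, ∀ b ∈ Y, a * b = b * a) A C → Wof A = Wof C := fun C hC' => by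
      induction hC' with
      | refl => rfl
      | tail _ hst ih => exact ih.trans (hedge hst.1 hst.2.1 hst.2.2)
    exact key B h
  obtain ⟨F, hFC, hF, hFc⟩ := exists_large_ea ha₀.2
  have hZ : Cfsg.IsElementaryAbelian p (Subgroup.zpowers a₀) :=
    PLocal.isEA_zpowers (by rw [← ha₀.1]; exact pow_orderOf_eq_one a₀)
  set A := F ⊔ Subgroup.zpowers a₀ with hAdef
  have hA : Cfsg.IsElementaryAbelian p A := PLocal.isEA_sup hF hZ (hFC.trans (by
    intro x hx
    refine Subgroup.mem_centralizer_iff.mpr ?_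
    rintro _ ⟨i, rfl⟩
    exact ((show Commute a₀ x from mem_centralizer_singleton'.mp hx).zpow_left i).eq))
  have hA3 : p ^ 3 ≤ Nat.card A := (card_ge_of_lt hF hFc).trans (Subgroup.card_le_of_le le_sup_left)
  have ha₀1 : a₀ ≠ 1 := fun h => by
    have := ha₀.1
    rw [h, orderOf_one] at this
    exact hp.out.one_lt.ne this
  set W := Wof A with hW
  have hle : θ a₀ ≤ W := le_iSup (fun b : {b : G // b ∈ A ∧ b ≠ 1} => θ (b : G))
    ⟨a₀, le_sup_right (a := F) (Subgroup.mem_zpowers a₀), ha₀1⟩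
  haveI hWn : W.Normal := by
    refine ⟨fun x hx g => ?_⟩
    have hgA : Cfsg.IsElementaryAbelian p (A.map (MulAut.conj g).toMonoidHom) := PLocal.isEA_map hA _
    have hgA3 : p ^ 3 ≤ Nat.card ↥(A.map (MulAut.conj g).toMonoidHom) := by rwa [Coprime.card_map_conj]
    have h : W.map (MulAut.conj g).toMonoidHom ≤ Wof (A.map (MulAut.conj g).toMonoidHom) := by
      rw [hW, hWof, Subgroup.map_iSup]
      refine iSup_le fun b => ?_
      rw [← heq b g (isRankThreePoint_of_mem hA hA3 b.2.1 b.2.2)]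
      exact le_iSup (fun c : {c : G // c ∈ A.map (MulAut.conj g).toMonoidHom ∧ c ≠ 1} => θ (c : G))
        ⟨g * b * g⁻¹, ⟨b, b.2.1, rfl⟩, fun h1 => b.2.2 (conj_eq_one_iff.mp h1)⟩
    rw [← hWeq hA hA3 hgA hgA3] at h
    exact h ⟨x, hx, rfl⟩
  have hWO : W ≤ Cfsg.pPrimeCore p G := Core.le_pPrimeCore hWn
    (hp.out.coprime_iff_not_dvd.mpr (closure_mem_family hA hA3 (hfun hA hA3)).2.1).symm
  exact le_bot_iff.mp (hle.trans (hWO.trans hO.le))

/-- Balance of `O_{p'}(C(a))` when the centralizer of `b` has trivial `p`-layer. -/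
theorem core_balance_of_trivial_pLayer [hp : Fact p.Prime] {a b : G} (hab : a * b = b * a) (ha : orderOf a = p)
    (hL : Cfsg.pLayer p ↥(Subgroup.centralizer ({b} : Set G)) = ⊥) :
    Cfsg.centralizerPPrimeCore p a ⊓ Subgroup.centralizer {b} ≤ Cfsg.centralizerPPrimeCore p b := by
  set H := Subgroup.centralizer ({b} : Set G)
  set Ca := Subgroup.centralizer ({a} : Set G)
  have haH : a ∈ H := mem_centralizer_singleton'.mpr hab.symm
  set a' : ↥H := ⟨a, haH⟩
  set W := (Cfsg.centralizerPPrimeCore p a ⊓ H).subgroupOf H with hW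
  have hle : W ≤ Cfsg.pPrimeCore p ↥H := by
    refine le_pPrimeCore_of_local hL (P := Subgroup.zpowers a')
      (IsPGroup.of_card (n := 1) (by rw [Nat.card_zpowers, ← Subgroup.orderOf_coe, ha, pow_one])) ?_ ?_ ?_
    · intro x hx
      obtain ⟨y, -, hy⟩ := hx.1
      refine Subgroup.mem_centralizer_iff.mpr ?_
      rintro _ ⟨i, rfl⟩
      refine ((show Commute a' x from ?_).zpow_left i).eq
      refine Subtype.ext ?_
      show a * (x : G) = (x : G) * a
      have hxa : (x : G) ∈ Ca := (show (y : G) = (x : G) from hy) ▸ y.2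
      exact mem_centralizer_singleton'.mp hxa
    · rw [hW, Core.card_subgroupOf inf_le_right]
      refine Nat.Coprime.coprime_dvd_left (Subgroup.card_dvd_of_le inf_le_left) ?_
      rw [Cfsg.centralizerPPrimeCore, Core.card_map_subtype]
      exact Core.card_pPrimeCore_coprime p _
    · intro c hc
      refine Coprime.mem_normalizer_of_conj_mem fun x hx => ?_
      have hca : (c : G) ∈ Ca := mem_centralizer_singleton'.mpr
        (congrArg Subtype.val (Subgroup.mem_centralizer_iff.mp hc a' (Subgroup.mem_zpowers a')))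
      obtain ⟨y, hy, hye⟩ := hx.1
      refine ⟨⟨⟨c, hca⟩ * y * ⟨c, hca⟩⁻¹,
        (inferInstance : (Cfsg.pPrimeCore p ↥Ca).Normal).conj_mem y hy _, ?_⟩, (c * x * c⁻¹).2⟩
      show (c : G) * (y : G) * (c : G)⁻¹ = (c : G) * (x : G) * (c : G)⁻¹
      rw [show (y : G) = (x : G) from hye]
  intro x hx
  exact ⟨⟨x, hx.2⟩, hle (show (⟨x, hx.2⟩ : ↥H) ∈ W from hx), rfl⟩

theorem fstar_eq_pCore_of_trivial {H : Type*} [Group H] [Finite H] [Fact p.Prime] (hL : Cfsg.pLayer p H = ⊥)
    (hO : Cfsg.pPrimeCore p H = ⊥) : Cfsg.generalizedFittingSubgroup H = Cfsg.pCore p H := by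
  rw [generalizedFitting_eq_pCore_iff]
  refine ⟨?_, hO⟩
  have hk : (pBar p H).ker = ⊥ := by rw [pBar_ker]; exact hO
  have e := layer_map (MulEquiv.ofBijective (pBar p H) ⟨(MonoidHom.ker_eq_bot_iff _).mp hk, pBar_surjective⟩)
  rw [pLayer_eq_bot_iff.mp hL, Subgroup.map_eq_bot_iff_of_injective] at e
  · exact e
  · exact (MulEquiv.ofBijective _ _).injective

theorem map_centralizerPPrimeCore_le [hp : Fact p.Prime] (a g : G) :
    (Cfsg.centralizerPPrimeCore p a).map (MulAut.conj g).toMonoidHom ≤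
      Cfsg.centralizerPPrimeCore p (g * a * g⁻¹) := by
  have hmap : ∀ x ∈ Subgroup.centralizer ({a} : Set G), g * x * g⁻¹ ∈ Subgroup.centralizer ({g * a * g⁻¹} : Set G) :=
    fun x hx => mem_centralizer_singleton'.mpr (by
      have h := mem_centralizer_singleton'.mp hx
      calc g * a * g⁻¹ * (g * x * g⁻¹) = g * (a * x) * g⁻¹ := by group
        _ = g * (x * a) * g⁻¹ := by rw [h]
        _ = g * x * g⁻¹ * (g * a * g⁻¹) := by group)
  refine le_pcore' (t := p) ?_ ?_ ?_
  · rintro _ ⟨x, hx, rfl⟩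
    exact hmap x (pcore'_le _ hx)
  · intro y hy
    refine Coprime.mem_normalizer_of_conj_mem ?_
    rintro _ ⟨x, hx, rfl⟩
    have hy' : g⁻¹ * y * g ∈ Subgroup.centralizer ({a} : Set G) := mem_centralizer_singleton'.mpr (by
      have h := mem_centralizer_singleton'.mp hy
      calc a * (g⁻¹ * y * g) = g⁻¹ * (g * a * g⁻¹ * y) * g := by group
        _ = g⁻¹ * (y * (g * a * g⁻¹)) * g := by rw [h]
        _ = g⁻¹ * y * g * a := by group)
    refine ⟨(g⁻¹ * y * g) * x * (g⁻¹ * y * g)⁻¹, (Subgroup.mem_normalizer_iff.mp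
      (normalizer_le_pcore' (t := p) _ (Subgroup.le_normalizer hy')) x).mp hx, ?_⟩
    show g * ((g⁻¹ * y * g) * x * (g⁻¹ * y * g)⁻¹) * g⁻¹ = y * (g * x * g⁻¹) * y⁻¹
    group
  · rw [Coprime.card_map_conj]
    exact card_pcore' _

theorem centralizerPPrimeCore_conj_eq [hp : Fact p.Prime] (a g : G) :
    Cfsg.centralizerPPrimeCore p (g * a * g⁻¹) =
      (Cfsg.centralizerPPrimeCore p a).map (MulAut.conj g).toMonoidHom := by
  refine le_antisymm ?_ (map_centralizerPPrimeCore_le a g)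
  have h := map_centralizerPPrimeCore_le (p := p) (g * a * g⁻¹) g⁻¹
  rw [show g⁻¹ * (g * a * g⁻¹) * g⁻¹⁻¹ = a by group] at h
  intro x hx
  exact ⟨g⁻¹ * x * g⁻¹⁻¹, h ⟨x, hx, rfl⟩, by simp [mul_assoc]⟩

end Cfsg.Agent.Components.SFT
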